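import Groth.Agent.FPPair8.Systems

/-!
# Finite finitely presented models of a map between integral algebras
-/

set_option autoImplicit false
universe u

open MvPolynomial

namespace Groth.Agent.FPPair8

variable {R : Type u} [CommRing R]
variable {B C : Type u} [CommRing B] [CommRing C] [Algebra R B] [Algebra R C]

/-- a model of `f : B → C` -/
structure IIdx (R : Type u) [CommRing R] [Algebra R B] [Algebra R C] (f : B →ₐ[R] C) : Type u where
  S : Finset B
  T : Finset C
  gmem : ∀ b ∈ S, f b ∈ T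
  IB : Ideal (PS R S)
  IC : Ideal (PS R T)
  fgB : IB.FG
  fgC : IC.FG
  leB : ∀ q ∈ IB, ev (id : B → B) S q = 0
  leC : ∀ p ∈ IC, ev (id : C → C) T p = 0
  mapB : IB.map (inc f gmem) ≤ IC
  intB : Algebra.IsIntegral R (PS R S ⧸ IB)
  intC : Algebra.IsIntegral R (PS R T ⧸ IC)
  sB : Function.Surjective (algebraMap R B) → Function.Surjective (algebraMap R (PS R S ⧸ IB))
  sC : Function.Surjective (algebraMap R C) → Function.Surjective (algebraMap R (PS R T ⧸ IC))
  sBC : Function.Surjective f → Function.Surjective (toQuot f gmem IC)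
  nBC : Function.Surjective f → (∀ x ∈ RingHom.ker f.toRingHom, IsNilpotent x) →
    RingHom.ker (toQuot f gmem IC) ≤ IB.radical

variable {f : B →ₐ[R] C}

instance : Preorder (IIdx R f) where
  le j k := ∃ (hS : ∀ b ∈ j.S, id b ∈ k.S) (hT : ∀ d ∈ j.T, id d ∈ k.T),
    j.IB.map (inc id hS) ≤ k.IB ∧ j.IC.map (inc id hT) ≤ k.IC
  le_refl j := by
    refine ⟨fun b hb => hb, fun d hd => hd, ?_⟩
    exact ⟨Ideal.map_le_iff_le_comap.2 fun x hx => by rw [Ideal.mem_comap, inc_id_id]; exact hx,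
      Ideal.map_le_iff_le_comap.2 fun x hx => by rw [Ideal.mem_comap, inc_id_id]; exact hx⟩
  le_trans j k l := by
    rintro ⟨hS, hT, h1, h2⟩ ⟨hS', hT', h1', h2'⟩
    refine ⟨fun b hb => hS' _ (hS b hb), fun d hd => hT' _ (hT d hd), ?_, ?_⟩
    · refine Ideal.map_le_iff_le_comap.2 fun x hx => ?_
      rw [Ideal.mem_comap, show inc id (fun b hb => hS' _ (hS b hb)) x = inc id hS' (inc id hS x) from
        (inc_inc id id hS hS' x).symm]
      exact h1' (Ideal.mem_map_of_mem _ (h1 (Ideal.mem_map_of_mem _ hx)))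
    · refine Ideal.map_le_iff_le_comap.2 fun x hx => ?_
      rw [Ideal.mem_comap, show inc id (fun b hb => hT' _ (hT b hb)) x = inc id hT' (inc id hT x) from
        (inc_inc id id hT hT' x).symm]
      exact h2' (Ideal.mem_map_of_mem _ (h2 (Ideal.mem_map_of_mem _ hx)))

theorem eq_top_of_X_mem {α : Type u} {S : Finset α} {I : Ideal (PS R S)} (A : Subalgebra R (PS R S ⧸ I))
    (h : ∀ x : ↥S, Ideal.Quotient.mkₐ R I (X x) ∈ A) : A = ⊤ := by
  refine eq_top_iff.2 fun w _ => ?_
  obtain ⟨p, rfl⟩ := Ideal.Quotient.mkₐ_surjective R I w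
  induction p using MvPolynomial.induction_on with
  | C r => exact (Ideal.Quotient.mkₐ R I).commutes r ▸ A.algebraMap_mem r
  | add p q hp hq => rw [map_add]; exact A.add_mem (hp trivial) (hq trivial)
  | mul_X p x hp => rw [map_mul]; exact A.mul_mem (hp trivial) (h x)

/-- Relations making the variables integral, and equal to constants when possible. -/
theorem exists_relations {α : Type u} [CommRing α] [Algebra R α] [Algebra.IsIntegral R α] (S : Finset α) :
    ∃ L : Ideal (PS R S), L.FG ∧ L ≤ RingHom.ker (ev (id : α → α) S) ∧ ∀ I : Ideal (PS R S), L ≤ I →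
      Algebra.IsIntegral R (PS R S ⧸ I) ∧
        (Function.Surjective (algebraMap R α) → Function.Surjective (algebraMap R (PS R S ⧸ I))) := by
  classical
  choose p hp using fun x : ↥S => Algebra.IsIntegral.isIntegral (R := R) x.1
  let r : ↥S → PS R S := fun x => if h : Function.Surjective (algebraMap R α) then
    X x - MvPolynomial.C (Function.surjInv h x.1) else Polynomial.aeval (X x : PS R S) (p x)
  refine ⟨Ideal.span (Set.range fun x => r x) ⊔ Ideal.span (Set.range fun x => Polynomial.aeval (X x : PS R S) (p x)),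
    Submodule.FG.sup (Submodule.fg_span (Set.finite_range _)) (Submodule.fg_span (Set.finite_range _)), ?_, ?_⟩
  · have h2 : ∀ x : ↥S, ev id S (Polynomial.aeval (X x : PS R S) (p x)) = 0 := fun x => by
      rw [← Polynomial.aeval_algHom_apply, ev_X]
      exact (hp x).2
    refine sup_le (Ideal.span_le.2 ?_) (Ideal.span_le.2 ?_)
    · rintro _ ⟨x, rfl⟩
      rw [SetLike.mem_coe, RingHom.mem_ker]
      simp only [r]
      split
      · next h =>
        rw [map_sub, ev_X, show ev (id : α → α) S (MvPolynomial.C (Function.surjInv h x.1)) = _ from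
          (ev (id : α → α) S).commutes _, Function.surjInv_eq h]
        exact sub_self _
      · exact h2 x
    · rintro _ ⟨x, rfl⟩
      exact h2 x
  · intro I hI
    refine ⟨⟨fun w => ?_⟩, fun h w => ?_⟩
    · have hA : integralClosure R (PS R S ⧸ I) = ⊤ := eq_top_of_X_mem _ fun x => by
        refine ⟨p x, (hp x).1, ?_⟩
        rw [← Polynomial.aeval_def, Polynomial.aeval_algHom_apply]
        exact Ideal.Quotient.eq_zero_iff_mem.2 (hI (Ideal.mem_sup_right (Ideal.subset_span ⟨x, rfl⟩)))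
      exact (eq_top_iff.1 hA trivial : w ∈ integralClosure R (PS R S ⧸ I))
    · have hA : (⊥ : Subalgebra R (PS R S ⧸ I)) = ⊤ := eq_top_of_X_mem _ fun x => by
        refine Algebra.mem_bot.2 ⟨Function.surjInv h x.1, ?_⟩
        show algebraMap R _ (Function.surjInv h x.1) = _
        rw [← (Ideal.Quotient.mkₐ R I).commutes, MvPolynomial.algebraMap_eq]
        refine (Ideal.Quotient.eq.2 ?_).symm
        refine hI (Ideal.mem_sup_left (Ideal.subset_span ⟨x, ?_⟩))
        simp only [r, dif_pos h]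
      exact Algebra.mem_bot.1 (eq_top_iff.1 hA trivial : w ∈ (⊥ : Subalgebra R (PS R S ⧸ I)))

set_option maxHeartbeats 1000000 in
/-- Every finite piece of data sits inside a model. -/
theorem exists_iidx [Algebra.IsIntegral R B] [Algebra.IsIntegral R C] (f : B →ₐ[R] C)
    (S₀ : Finset B) (T₀ : Finset C) (JB : Ideal (PS R S₀)) (JC : Ideal (PS R T₀))
    (hJB : JB.FG) (hJC : JC.FG) (leB : ∀ q ∈ JB, ev (id : B → B) S₀ q = 0)
    (leC : ∀ p ∈ JC, ev (id : C → C) T₀ p = 0) :
    ∃ (k : IIdx R f) (hS : ∀ b ∈ S₀, id b ∈ k.S) (hT : ∀ d ∈ T₀, id d ∈ k.T),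
      JB.map (inc id hS) ≤ k.IB ∧ JC.map (inc id hT) ≤ k.IC := by
  classical
  let Fs : Finset B := if hf : Function.Surjective f then T₀.image (fun d => Function.surjInv hf d) else ∅
  have hFs : Function.Surjective f → ∀ d ∈ T₀, ∃ b ∈ Fs, f b = d := fun hf d hd =>
    ⟨Function.surjInv hf d, by simp only [Fs, dif_pos hf, Finset.mem_image]; exact ⟨d, hd, rfl⟩,
      Function.surjInv_eq hf _⟩
  let S : Finset B := S₀ ∪ Fs
  let T : Finset C := T₀ ∪ S.image f
  have hgm : ∀ b ∈ S, f b ∈ T := fun b hb => Finset.mem_union_right _ (Finset.mem_image_of_mem _ hb)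
  have hS : ∀ b ∈ S₀, id b ∈ S := fun b hb => Finset.mem_union_left _ hb
  have hT : ∀ d ∈ T₀, id d ∈ T := fun d hd => Finset.mem_union_left _ hd
  let evB := ev (R := R) (id : B → B) S
  let evC := ev (R := R) (id : C → C) T
  let σ := inc (R := R) f hgm
  have hev : ∀ q, evC (σ q) = f (evB q) := fun q =>
    AlgHom.congr_fun (MvPolynomial.algHom_ext (fun x => by simp [evC, σ, evB, inc, ev]) :
      evC.comp σ = f.comp evB) q
  have hB0 : JB.map (inc id hS) ≤ RingHom.ker evB := Ideal.map_le_iff_le_comap.2 fun x hx => by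
    show evB (inc id hS x) = 0
    rw [ev_inc]; exact leB x hx
  have hC0 : JC.map (inc id hT) ≤ RingHom.ker evC := Ideal.map_le_iff_le_comap.2 fun x hx => by
    show evC (inc id hT x) = 0
    rw [ev_inc]; exact leC x hx
  obtain ⟨RB, hRBfg, hRBk, hRB⟩ := exists_relations (R := R) S
  obtain ⟨RC, hRCfg, hRCk, hRC⟩ := exists_relations (R := R) T
  let Es : Set (PS R T) := {p | ∃ (b : B) (hb : b ∈ S) (d : C) (hd : d ∈ T₀), f b = d ∧
    p = X ⟨d, hT d hd⟩ - X ⟨f b, hgm b hb⟩}
  have hEs : Es.Finite := (Set.finite_range fun q : ↥T × ↥T => (X q.1 - X q.2 : PS R T)).subset <| by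
    rintro _ ⟨b, hb, d, hd, -, rfl⟩
    exact ⟨(⟨d, hT d hd⟩, ⟨f b, hgm b hb⟩), rfl⟩
  let IB₁ : Ideal (PS R S) := JB.map (inc id hS) ⊔ RB
  let IC : Ideal (PS R T) := JC.map (inc id hT) ⊔ IB₁.map σ ⊔ RC ⊔ Ideal.span Es
  have hIB₁fg : IB₁.FG := Submodule.FG.sup (Ideal.FG.map hJB _) hRBfg
  have hICfg : IC.FG := Submodule.FG.sup (Submodule.FG.sup (Submodule.FG.sup (Ideal.FG.map hJC _)
    (Ideal.FG.map hIB₁fg _)) hRCfg) (Submodule.fg_span hEs)
  have hIB₁0 : IB₁ ≤ RingHom.ker evB := sup_le hB0 hRBk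
  have hIC0 : IC ≤ RingHom.ker evC := by
    refine sup_le (sup_le (sup_le hC0 (Ideal.map_le_iff_le_comap.2 fun x hx => ?_)) hRCk) (Ideal.span_le.2 ?_)
    · show evC (σ x) = 0
      rw [hev, show evB x = 0 from hIB₁0 hx, map_zero]
    · rintro x ⟨b, hb, d, hd, hbd, rfl⟩
      rw [SetLike.mem_coe, RingHom.mem_ker, map_sub, ev_X, ev_X]
      simp only [id_eq]
      rw [hbd, sub_self]
  let ψ := toQuot f hgm IC
  have hsurj : Function.Surjective f → Function.Surjective ψ := fun hf => by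
    refine AlgHom.range_eq_top ψ |>.1 (eq_top_of_X_mem _ fun x => ?_)
    obtain ⟨x, hx⟩ := x
    rcases Finset.mem_union.1 hx with hd | hd
    · obtain ⟨b, hb, hbd⟩ := hFs hf x hd
      have hbS : b ∈ S := Finset.mem_union_right _ hb
      refine ⟨X ⟨b, hbS⟩, ?_⟩
      show Ideal.Quotient.mk IC (σ (X ⟨b, hbS⟩)) = Ideal.Quotient.mk IC (X ⟨x, hx⟩)
      rw [inc_X]
      refine (Ideal.Quotient.eq.2 ?_).symm
      exact Ideal.mem_sup_right (Ideal.subset_span ⟨b, hbS, x, hd, hbd, rfl⟩)
    · obtain ⟨b, hb, rfl⟩ := Finset.mem_image.1 hd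
      refine ⟨(X ⟨b, hb⟩ : PS R S), ?_⟩
      show Ideal.Quotient.mkₐ R IC (inc f hgm (X ⟨b, hb⟩ : PS R S)) = _
      rw [inc_X f hgm ⟨b, hb⟩]
  obtain ⟨LB, hLBfg, hLBK, hLBI, hLBrad⟩ : ∃ L : Ideal (PS R S), L.FG ∧ L ≤ RingHom.ker evB ∧
      L ≤ RingHom.ker ψ ∧
      (Function.Surjective f → (∀ x ∈ RingHom.ker f.toRingHom, IsNilpotent x) → RingHom.ker ψ ≤ L.radical) := by
    by_cases h : Function.Surjective f ∧ ∀ x ∈ RingHom.ker f.toRingHom, IsNilpotent x
    · have : Algebra.FinitePresentation R (PS R T ⧸ IC) := Algebra.FinitePresentation.quotient hICfg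
      obtain ⟨L, h1, h2, h3, h4⟩ := exists_radical_sub (RingHom.ker evB) (RingHom.ker ψ)
        (Algebra.FinitePresentation.ker_fG_of_surjective ψ (hsurj h.1)) fun q hq => by
          obtain ⟨n, hn⟩ := h.2 (evB q) (by
            show f (evB q) = 0
            rw [← hev]
            exact hIC0 (Ideal.Quotient.eq_zero_iff_mem.1 hq))
          exact ⟨n, by rw [RingHom.mem_ker, map_pow, hn]⟩
      exact ⟨L, h1, h2, h3, fun _ _ => h4⟩
    · exact ⟨⊥, Submodule.fg_bot, bot_le, bot_le, fun h1 h2 => absurd ⟨h1, h2⟩ h⟩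
  let k : IIdx R f :=
    { S := S
      T := T
      gmem := hgm
      IB := IB₁ ⊔ LB
      IC := IC
      fgB := Submodule.FG.sup hIB₁fg hLBfg
      fgC := hICfg
      leB := fun q hq => (sup_le hIB₁0 hLBK : _ ≤ RingHom.ker evB) hq
      leC := fun q hq => hIC0 hq
      mapB := by
        rw [Ideal.map_sup]
        refine sup_le (le_sup_of_le_left (le_sup_of_le_left le_sup_right))
          (Ideal.map_le_iff_le_comap.2 fun x hx => ?_)
        exact ((Ideal.Quotient.eq_zero_iff_mem (I := IC)).1 (RingHom.mem_ker.1 (hLBI hx)) : σ x ∈ IC)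
      intB := (hRB _ (le_sup_of_le_left le_sup_right)).1
      intC := (hRC _ (le_sup_of_le_left le_sup_right)).1
      sB := (hRB _ (le_sup_of_le_left le_sup_right)).2
      sC := (hRC _ (le_sup_of_le_left le_sup_right)).2
      sBC := hsurj
      nBC := fun h1 h2 => (hLBrad h1 h2).trans (Ideal.radical_mono le_sup_right) }
  exact ⟨k, hS, hT, le_sup_of_le_left le_sup_left, le_sup_of_le_left (le_sup_of_le_left le_sup_left)⟩

end Groth.Agent.FPPair8
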