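import Mathlib

/-!
# Finitely presented models of a map to a nil-thickened algebra
-/

set_option autoImplicit false
universe u

open MvPolynomial

namespace Groth.Agent.FPPair8

variable {R : Type u} [CommRing R]

/-- polynomials on a finite set of elements -/
abbrev PS (R : Type u) [CommRing R] {α : Type u} (S : Finset α) : Type u := MvPolynomial ↥S R

/-- evaluation -/
noncomputable def ev {α A : Type u} [CommRing A] [Algebra R A] (a : α → A) (S : Finset α) : PS R S →ₐ[R] A :=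
  aeval fun x : ↥S => a x.1

theorem ev_X {α A : Type u} [CommRing A] [Algebra R A] (a : α → A) (S : Finset α) (x : ↥S) :
    ev (R := R) a S (X x) = a x.1 := aeval_X _ _

/-- renaming -/
noncomputable def inc {α β : Type u} (σ : α → β) {S : Finset α} {T : Finset β} (h : ∀ x ∈ S, σ x ∈ T) :
    PS R S →ₐ[R] PS R T :=
  rename fun x : ↥S => (⟨σ x.1, h x.1 x.2⟩ : ↥T)

theorem inc_X {α β : Type u} (σ : α → β) {S : Finset α} {T : Finset β} (h : ∀ x ∈ S, σ x ∈ T) (x : ↥S) :
    inc (R := R) σ h (X x) = X ⟨σ x.1, h x.1 x.2⟩ := rename_X _ _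

theorem inc_comp_inc {α β γ : Type u} (σ : α → β) (τ : β → γ) {S : Finset α} {T : Finset β} {U : Finset γ}
    (h : ∀ x ∈ S, σ x ∈ T) (h' : ∀ x ∈ T, τ x ∈ U) :
    (inc (R := R) τ h').comp (inc σ h) = inc (τ ∘ σ) fun x hx => h' _ (h x hx) :=
  MvPolynomial.algHom_ext fun x => by simp [inc]

theorem ev_comp_inc {α β A : Type u} [CommRing A] [Algebra R A] (a : β → A) (σ : α → β) {S : Finset α}
    {T : Finset β} (h : ∀ x ∈ S, σ x ∈ T) : (ev (R := R) a T).comp (inc σ h) = ev (a ∘ σ) S :=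
  MvPolynomial.algHom_ext fun x => by simp [inc, ev]

/-- a finitely generated ideal with nilpotent image is radical over a finitely generated subideal in the kernel -/
theorem exists_radical_sub {A : Type u} [CommRing A] (K I : Ideal A) (hI : I.FG)
    (h : ∀ x ∈ I, ∃ n : ℕ, x ^ n ∈ K) : ∃ I' : Ideal A, I'.FG ∧ I' ≤ K ∧ I' ≤ I ∧ I ≤ I'.radical := by
  classical
  obtain ⟨s, rfl⟩ := hI
  choose n hn using fun x : ↥s => h x.1 (Ideal.subset_span x.2)
  refine ⟨Ideal.span (Set.range fun x : ↥s => x.1 ^ (n x + 1)), Submodule.fg_span (Set.finite_range _), ?_, ?_, ?_⟩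
  · rw [Ideal.span_le]
    rintro _ ⟨x, rfl⟩
    show x.1 ^ (n x + 1) ∈ K
    rw [pow_succ]
    exact Ideal.mul_mem_right _ _ (hn x)
  · rw [Ideal.span_le]
    rintro _ ⟨x, rfl⟩
    exact Ideal.pow_mem_of_mem _ (Ideal.subset_span x.2) _ (Nat.succ_pos _)
  · rw [Ideal.span_le]
    intro x hx
    exact ⟨n ⟨x, hx⟩ + 1, Ideal.subset_span ⟨⟨x, hx⟩, rfl⟩⟩

variable {B D D' : Type u} [CommRing B] [CommRing D] [CommRing D'] [Algebra R B] [Algebra R D] [Algebra R D']
  (f : B →ₐ[R] D) (i : D' →ₐ[R] D) (g : B → D')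

/-- the composite `R[S] → R[T] / I` -/
noncomputable def toQuot {S : Finset B} {T : Finset D'} (h : ∀ b ∈ S, g b ∈ T) (I : Ideal (PS R T)) :
    PS R S →ₐ[R] PS R T ⧸ I :=
  (Ideal.Quotient.mkₐ R I).comp (inc g h)

/-- a model -/
structure Idx (R : Type u) [CommRing R] [Algebra R B] [Algebra R D] [Algebra R D']
    (f : B →ₐ[R] D) (i : D' →ₐ[R] D) (g : B → D') : Type u where
  S : Finset B
  T : Finset D'
  gmem : ∀ b ∈ S, g b ∈ T
  IB : Ideal (PS R S)
  I' : Ideal (PS R T)
  I : Ideal (PS R T)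
  fgB : IB.FG
  fg' : I'.FG
  fgI : I.FG
  leB : ∀ q ∈ IB, ev (id : B → B) S q = 0
  le' : ∀ p ∈ I', ev (id : D' → D') T p = 0
  le : ∀ p ∈ I, i (ev (id : D' → D') T p) = 0
  mapB : IB.map (inc g gmem) ≤ I
  sub : I' ≤ I
  rad : I ≤ I'.radical
  hsurj : Function.Surjective f → Function.Surjective (toQuot g gmem I)
  hnil : Function.Surjective f → (∀ x ∈ RingHom.ker f.toRingHom, IsNilpotent x) →
    RingHom.ker (toQuot g gmem I) ≤ IB.radical
  hint : f.toRingHom.IsIntegral → (toQuot g gmem I).toRingHom.IsIntegral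

variable {f i g}

instance : Preorder (Idx R f i g) where
  le j k := ∃ (hS : ∀ b ∈ j.S, id b ∈ k.S) (hT : ∀ d ∈ j.T, id d ∈ k.T),
    j.IB.map (inc id hS) ≤ k.IB ∧ j.I'.map (inc id hT) ≤ k.I' ∧ j.I.map (inc id hT) ≤ k.I
  le_refl j := by
    refine ⟨fun b hb => hb, fun d hd => hd, ?_⟩
    have e : ∀ {α : Type u} (S : Finset α) (h : ∀ b ∈ S, id b ∈ S), inc (R := R) id h = AlgHom.id R (PS R S) :=
      fun S h => MvPolynomial.algHom_ext fun x => by simp [inc]
    simp only [e]
    exact ⟨le_of_eq (Ideal.map_id _), le_of_eq (Ideal.map_id _), le_of_eq (Ideal.map_id _)⟩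
  le_trans j k l := by
    rintro ⟨hS, hT, h1, h2, h3⟩ ⟨hS', hT', h1', h2', h3'⟩
    refine ⟨fun b hb => hS' _ (hS b hb), fun d hd => hT' _ (hT d hd), ?_, ?_, ?_⟩
    · refine le_trans (le_of_eq ?_) (le_trans (Ideal.map_mono (f := inc id hS') h1) h1')
      rw [show inc (R := R) (id : B → B) (fun b hb => hS' _ (hS b hb)) = (inc id hS').comp (inc id hS) from
        (inc_comp_inc id id hS hS').symm, Ideal.map_mapₐ]
    · refine le_trans (le_of_eq ?_) (le_trans (Ideal.map_mono (f := inc id hT') h2) h2')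
      rw [show inc (R := R) (id : D' → D') (fun b hb => hT' _ (hT b hb)) = (inc id hT').comp (inc id hT) from
        (inc_comp_inc id id hT hT').symm, Ideal.map_mapₐ]
    · refine le_trans (le_of_eq ?_) (le_trans (Ideal.map_mono (f := inc id hT') h3) h3')
      rw [show inc (R := R) (id : D' → D') (fun b hb => hT' _ (hT b hb)) = (inc id hT').comp (inc id hT) from
        (inc_comp_inc id id hT hT').symm, Ideal.map_mapₐ]

set_option maxHeartbeats 1000000 in
/-- Every finite piece of data sits inside a model. -/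
theorem exists_idx (hnilD : ∀ x ∈ RingHom.ker i.toRingHom, IsNilpotent x) (hg : ∀ b, i (g b) = f b)
    (S₀ : Finset B) (T₀ : Finset D') (JB : Ideal (PS R S₀)) (J' J : Ideal (PS R T₀))
    (hJB : JB.FG) (hJ' : J'.FG) (hJ : J.FG) (leB : ∀ q ∈ JB, ev (id : B → B) S₀ q = 0)
    (le' : ∀ p ∈ J', ev (id : D' → D') T₀ p = 0) (le : ∀ p ∈ J, i (ev (id : D' → D') T₀ p) = 0) :
    ∃ (k : Idx R f i g) (hS : ∀ b ∈ S₀, id b ∈ k.S) (hT : ∀ d ∈ T₀, id d ∈ k.T),
      JB.map (inc id hS) ≤ k.IB ∧ J'.map (inc id hT) ≤ k.I' ∧ J.map (inc id hT) ≤ k.I := by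
  classical
  -- auxiliary elements of `B`
  let Fs : Finset B := if hf : Function.Surjective f then T₀.image (fun d => Function.surjInv hf (i d)) else ∅
  have hFs : Function.Surjective f → ∀ d ∈ T₀, ∃ b ∈ Fs, f b = i d := fun hf d hd =>
    ⟨Function.surjInv hf (i d), by simp only [Fs, dif_pos hf, Finset.mem_image]; exact ⟨d, hd, rfl⟩,
      Function.surjInv_eq hf _⟩
  let Fi : Finset B := if hf : f.toRingHom.IsIntegral then
    T₀.biUnion (fun d => (hf (i d)).choose.coeffs) else ∅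
  have hFi : f.toRingHom.IsIntegral → ∀ d ∈ T₀, ∃ p : Polynomial B, p.Monic ∧
      p.eval₂ f.toRingHom (i d) = 0 ∧ p.coeffs ⊆ Fi := fun hf d hd =>
    ⟨(hf (i d)).choose, (hf (i d)).choose_spec.1, (hf (i d)).choose_spec.2, fun c hc => by
      simp only [Fi, dif_pos hf, Finset.mem_biUnion]; exact ⟨d, hd, hc⟩⟩
  let S : Finset B := S₀ ∪ Fs ∪ Fi
  let T : Finset D' := T₀ ∪ S.image g
  have hgm : ∀ b ∈ S, g b ∈ T := fun b hb => Finset.mem_union_right _ (Finset.mem_image_of_mem _ hb)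
  have hS : ∀ b ∈ S₀, id b ∈ S := fun b hb => Finset.mem_union_left _ (Finset.mem_union_left _ hb)
  have hT : ∀ d ∈ T₀, id d ∈ T := fun d hd => Finset.mem_union_left _ hd
  let evB := ev (R := R) (id : B → B) S
  let ev' := ev (R := R) (id : D' → D') T
  let σ := inc (R := R) g hgm
  have hev : ∀ q, i (ev' (σ q)) = f (evB q) := fun q => by
    refine AlgHom.congr_fun (?_ : (i.comp ev').comp σ = f.comp evB) q
    exact MvPolynomial.algHom_ext fun x => by simp [ev', σ, evB, inc, ev, hg]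
  have hB0 : ∀ q ∈ JB.map (inc id hS), evB q = 0 := fun q hq => by
    have h : JB.map (inc id hS) ≤ RingHom.ker evB := Ideal.map_le_iff_le_comap.2 fun x hx => by
      show evB (inc id hS x) = 0
      rw [← AlgHom.comp_apply, ev_comp_inc]
      exact leB x hx
    exact h hq
  have hD0 : ∀ p ∈ J.map (inc id hT), i (ev' p) = 0 := fun p hp => by
    have h : J.map (inc id hT) ≤ RingHom.ker (i.comp ev') := Ideal.map_le_iff_le_comap.2 fun x hx => by
      show i (ev' (inc id hT x)) = 0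
      rw [← AlgHom.comp_apply ev' (inc id hT), ev_comp_inc]
      exact le x hx
    exact h hp
  have hD'0 : ∀ p ∈ J'.map (inc id hT), ev' p = 0 := fun p hp => by
    have h : J'.map (inc id hT) ≤ RingHom.ker ev' := Ideal.map_le_iff_le_comap.2 fun x hx => by
      show ev' (inc id hT x) = 0
      rw [← AlgHom.comp_apply ev' (inc id hT), ev_comp_inc]
      exact le' x hx
    exact h hp
  -- extra relations
  let Es : Set (PS R T) := {p | ∃ (b : B) (hb : b ∈ S) (d : D') (hd : d ∈ T₀), Function.Surjective f ∧ f b = i d ∧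
    p = X ⟨d, hT d hd⟩ - X ⟨g b, hgm b hb⟩}
  have hEs : Es.Finite := (Set.finite_range fun q : ↥T × ↥T => (X q.1 - X q.2 : PS R T)).subset <| by
    rintro _ ⟨b, hb, d, hd, -, -, rfl⟩
    exact ⟨(⟨d, hT d hd⟩, ⟨g b, hgm b hb⟩), rfl⟩
  have hlift : f.toRingHom.IsIntegral → ∀ d : ↥T₀, ∃ P : Polynomial (PS R S), P.Monic ∧
      i (ev' (P.eval₂ σ.toRingHom (X ⟨d.1, hT d.1 d.2⟩))) = 0 := fun hf d => by
    obtain ⟨p, hp, hp0, hpc⟩ := hFi hf d.1 d.2
    have hl : p ∈ Polynomial.lifts evB.toRingHom := by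
      refine (Polynomial.lifts_iff_coeff_lifts _).2 fun n => ?_
      by_cases hn : p.coeff n = 0
      · exact ⟨0, by rw [map_zero, hn]⟩
      · refine ⟨X ⟨p.coeff n, Finset.mem_union_right _ (hpc (Polynomial.coeff_mem_coeffs hn))⟩, ?_⟩
        exact ev_X _ _ _
    obtain ⟨P, hP, -, hPm⟩ := Polynomial.lifts_and_natDegree_eq_and_monic hl hp
    refine ⟨P, hPm, ?_⟩
    have h1 : (i.comp ev').toRingHom (P.eval₂ σ.toRingHom (X ⟨d.1, hT d.1 d.2⟩)) = 0 := by
      rw [Polynomial.hom_eval₂, show (i.comp ev').toRingHom.comp σ.toRingHom = f.toRingHom.comp evB.toRingHom from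
        RingHom.ext hev, ← Polynomial.eval₂_map, hP]
      show p.eval₂ f.toRingHom (i (ev' (X ⟨d.1, hT d.1 d.2⟩))) = 0
      rw [show ev' (X ⟨d.1, hT d.1 d.2⟩) = d.1 from ev_X _ _ _, hp0]
    exact h1
  let Ei : Set (PS R T) := if hf : f.toRingHom.IsIntegral then
    Set.range fun d : ↥T₀ => (hlift hf d).choose.eval₂ σ.toRingHom (X ⟨d.1, hT d.1 d.2⟩) else ∅
  have hEi : Ei.Finite := by
    simp only [Ei]; split
    · exact Set.finite_range _
    · exact Set.finite_empty
  let I : Ideal (PS R T) := J.map (inc id hT) ⊔ J'.map (inc id hT) ⊔ (JB.map (inc id hS)).map σ ⊔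
    Ideal.span (Es ∪ Ei)
  have hIfg : I.FG := Submodule.FG.sup (Submodule.FG.sup (Submodule.FG.sup (Ideal.FG.map hJ _) (Ideal.FG.map hJ' _))
    (Ideal.FG.map (Ideal.FG.map hJB _) _)) (Submodule.fg_span (hEs.union hEi))
  have hI0 : ∀ p ∈ I, i (ev' p) = 0 := fun p hp => by
    have h : I ≤ RingHom.ker (i.comp ev') := by
      refine sup_le (sup_le (sup_le hD0 fun x hx => ?_) (Ideal.map_le_iff_le_comap.2 fun x hx => ?_))
        (Ideal.span_le.2 ?_)
      · show i (ev' x) = 0
        rw [hD'0 x hx, map_zero]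
      · show i (ev' (σ x)) = 0
        rw [hev, hB0 x hx, map_zero]
      · rintro x (⟨b, hb, d, hd, -, hbd, rfl⟩ | hx)
        · rw [SetLike.mem_coe, RingHom.mem_ker, AlgHom.comp_apply, map_sub, map_sub, ev_X, ev_X]
          simp only [id_eq]
          rw [hg, hbd, sub_self]
        · simp only [Ei] at hx
          split at hx
          · next hf =>
            obtain ⟨d, rfl⟩ := hx
            exact (hlift hf d).choose_spec.2
          · exact hx.elim
    exact h hp
  obtain ⟨L', hL'fg, hL'K, hL'I, hL'rad⟩ := exists_radical_sub (RingHom.ker ev') I hIfg fun p hp => by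
    obtain ⟨n, hn⟩ := hnilD (ev' p) (hI0 p hp)
    exact ⟨n, by rw [RingHom.mem_ker, map_pow, hn]⟩
  let ψ := toQuot g hgm I
  have hgen : ∀ A : Subalgebra R (PS R T ⧸ I), ψ.range ≤ A →
      (∀ d (hd : d ∈ T₀), Ideal.Quotient.mkₐ R I (X ⟨d, hT d hd⟩) ∈ A) → A = ⊤ := fun A h1 h2 => by
    refine eq_top_iff.2 fun w _ => ?_
    obtain ⟨p, rfl⟩ := Ideal.Quotient.mkₐ_surjective R I w
    induction p using MvPolynomial.induction_on with
    | C r => exact (Ideal.Quotient.mkₐ R I).commutes r ▸ A.algebraMap_mem r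
    | add p q hp hq => rw [map_add]; exact A.add_mem (hp trivial) (hq trivial)
    | mul_X p x hp =>
      rw [map_mul]
      refine A.mul_mem (hp trivial) ?_
      obtain ⟨x, hx⟩ := x
      rcases Finset.mem_union.1 hx with hd | hd
      · exact h2 x hd
      · obtain ⟨b, hb, rfl⟩ := Finset.mem_image.1 hd
        refine h1 ⟨(X ⟨b, hb⟩ : PS R S), ?_⟩
        show Ideal.Quotient.mkₐ R I (inc g hgm (X ⟨b, hb⟩ : PS R S)) = _
        rw [inc_X g hgm ⟨b, hb⟩]
  have hsurj : Function.Surjective f → Function.Surjective ψ := fun hf => by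
    refine AlgHom.range_eq_top ψ |>.1 (hgen _ le_rfl fun d hd => ?_)
    obtain ⟨b, hb, hbd⟩ := hFs hf d hd
    have hbS : b ∈ S := Finset.mem_union_left _ (Finset.mem_union_right _ hb)
    refine ⟨X ⟨b, hbS⟩, ?_⟩
    show Ideal.Quotient.mk I (σ (X ⟨b, hbS⟩)) = Ideal.Quotient.mk I (X ⟨d, hT d hd⟩)
    rw [inc_X]
    refine (Ideal.Quotient.eq.2 ?_).symm
    exact Ideal.mem_sup_right (Ideal.subset_span (Or.inl ⟨b, hbS, d, hd, hf, hbd, rfl⟩))
  obtain ⟨LB, hLBfg, hLBK, hLBI, hLBrad⟩ : ∃ L : Ideal (PS R S), L.FG ∧ L ≤ RingHom.ker evB ∧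
      L ≤ RingHom.ker ψ ∧
      (Function.Surjective f → (∀ x ∈ RingHom.ker f.toRingHom, IsNilpotent x) → RingHom.ker ψ ≤ L.radical) := by
    by_cases h : Function.Surjective f ∧ ∀ x ∈ RingHom.ker f.toRingHom, IsNilpotent x
    · have : Algebra.FinitePresentation R (PS R T ⧸ I) := Algebra.FinitePresentation.quotient hIfg
      obtain ⟨L, h1, h2, h3, h4⟩ := exists_radical_sub (RingHom.ker evB) (RingHom.ker ψ)
        (Algebra.FinitePresentation.ker_fG_of_surjective ψ (hsurj h.1)) fun q hq => by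
          obtain ⟨n, hn⟩ := h.2 (evB q) (by
            show f (evB q) = 0
            rw [← hev]
            exact hI0 _ (Ideal.Quotient.eq_zero_iff_mem.1 hq))
          exact ⟨n, by rw [RingHom.mem_ker, map_pow, hn]⟩
      exact ⟨L, h1, h2, h3, fun _ _ => h4⟩
    · exact ⟨⊥, Submodule.fg_bot, bot_le, bot_le, fun h1 h2 => absurd ⟨h1, h2⟩ h⟩
  let k : Idx R f i g :=
    { S := S
      T := T
      gmem := hgm
      IB := JB.map (inc id hS) ⊔ LB
      I' := J'.map (inc id hT) ⊔ L'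
      I := I
      fgB := Submodule.FG.sup (Ideal.FG.map hJB _) hLBfg
      fg' := Submodule.FG.sup (Ideal.FG.map hJ' _) hL'fg
      fgI := hIfg
      leB := fun q hq => (sup_le (fun x hx => hB0 x hx) hLBK : _ ≤ RingHom.ker evB) hq
      le' := fun q hq => (sup_le (fun x hx => hD'0 x hx) hL'K : _ ≤ RingHom.ker ev') hq
      le := hI0
      mapB := by
        rw [Ideal.map_sup]
        refine sup_le (le_sup_of_le_left le_sup_right) (Ideal.map_le_iff_le_comap.2 fun x hx => ?_)
        exact ((Ideal.Quotient.eq_zero_iff_mem (I := I)).1 (RingHom.mem_ker.1 (hLBI hx)) : σ x ∈ I)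
      sub := sup_le (le_sup_of_le_left (le_sup_of_le_left le_sup_right)) hL'I
      rad := hL'rad.trans (Ideal.radical_mono le_sup_right)
      hsurj := hsurj
      hnil := fun h1 h2 => (hLBrad h1 h2).trans (Ideal.radical_mono le_sup_right)
      hint := fun hf => by
        letI := ψ.toRingHom.toAlgebra
        intro w
        let A : Subalgebra R (PS R T ⧸ I) :=
          { carrier := {w | ψ.toRingHom.IsIntegralElem w}
            mul_mem' := fun ha hb => RingHom.IsIntegralElem.mul _ ha hb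
            add_mem' := fun ha hb => RingHom.IsIntegralElem.add _ ha hb
            algebraMap_mem' := fun r => by
              show ψ.toRingHom.IsIntegralElem _
              rw [← ψ.commutes r]
              exact RingHom.isIntegralElem_map _ }
        have hA : A = ⊤ := hgen A (by rintro _ ⟨q, rfl⟩; exact RingHom.isIntegralElem_map _) fun d hd => by
          refine ⟨(hlift hf ⟨d, hd⟩).choose, (hlift hf ⟨d, hd⟩).choose_spec.1, ?_⟩
          rw [show ψ.toRingHom = (Ideal.Quotient.mk I).comp σ.toRingHom from rfl,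
            show Ideal.Quotient.mkₐ R I (X ⟨d, hT d hd⟩) = Ideal.Quotient.mk I (X ⟨d, hT d hd⟩) from rfl,
            ← Polynomial.hom_eval₂, Ideal.Quotient.eq_zero_iff_mem]
          refine Ideal.mem_sup_right (Ideal.subset_span (Or.inr ?_))
          simp only [Ei, dif_pos hf]
          exact ⟨⟨d, hd⟩, rfl⟩
        exact (eq_top_iff.1 hA trivial : w ∈ A) }
  exact ⟨k, hS, hT, le_sup_left, le_sup_left, le_sup_of_le_left (le_sup_of_le_left le_sup_left)⟩

end Groth.Agent.FPPair8
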