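import Mathlib.Algebra.Category.Ring.Under.Basic
import Mathlib.CategoryTheory.Filtered.Basic

/-! A directed system of algebras, as an explicit diagram with colimit cocone in `Under R`. -/

set_option autoImplicit false
universe u
open CategoryTheory CategoryTheory.Limits

namespace Groth.Agent.FPPair8

variable {R : Type u} [CommRing R] {I : Type u} [Preorder I]

/-- directed system of `R`-algebras -/
structure Sys (R : Type u) [CommRing R] (I : Type u) [Preorder I] where
  G : I → Type u
  [ring : ∀ i, CommRing (G i)]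
  [alg : ∀ i, Algebra R (G i)]
  map : ∀ i j, i ≤ j → (G i →ₐ[R] G j)
  map_id : ∀ i, map i i le_rfl = AlgHom.id R (G i)
  map_comp : ∀ i j k (h1 : i ≤ j) (h2 : j ≤ k), (map j k h2).comp (map i j h1) = map i k (h1.trans h2)

attribute [instance] Sys.ring Sys.alg

/-- the diagram -/
noncomputable def Sys.diag (Y : Sys R I) : I ⥤ Under (CommRingCat.of R) where
  obj i := CommRingCat.mkUnder (CommRingCat.of R) (Y.G i)
  map {i j} φ := (Y.map i j φ.le).toUnder
  map_id i := by
    apply CommRingCat.mkUnder_ext; intro a
    show Y.map i i _ a = a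
    rw [Y.map_id]; rfl
  map_comp {i j k} φ ψ := by
    apply CommRingCat.mkUnder_ext; intro a
    show Y.map i k _ a = Y.map j k ψ.le (Y.map i j φ.le a)
    rw [← AlgHom.comp_apply, Y.map_comp]

/-- a compatible family of maps out of a system -/
noncomputable def Sys.cocone (Y : Sys R I) {A : Type u} [CommRing A] [Algebra R A] (g : ∀ i, Y.G i →ₐ[R] A)
    (hg : ∀ i j (h : i ≤ j), (g j).comp (Y.map i j h) = g i) :
    Y.diag ⟶ (Functor.const I).obj (Under.mk (CommRingCat.ofHom (algebraMap R A))) where
  app i := (g i).toUnder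
  naturality {i j} φ := by
    apply CommRingCat.mkUnder_ext; intro a
    exact AlgHom.congr_fun (hg i j φ.le) a

/-- a natural family of maps of systems -/
noncomputable def Sys.hom (Y Y' : Sys R I) (t : ∀ i, Y.G i →ₐ[R] Y'.G i)
    (ht : ∀ i j (h : i ≤ j), (t j).comp (Y.map i j h) = (Y'.map i j h).comp (t i)) : Y.diag ⟶ Y'.diag where
  app i := (t i).toUnder
  naturality {i j} φ := by
    apply CommRingCat.mkUnder_ext; intro a
    exact AlgHom.congr_fun (ht i j φ.le) a

theorem Sys.isColimit [Nonempty I] [IsDirected I (· ≤ ·)] (Y : Sys R I) {A : Type u} [CommRing A] [Algebra R A]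
    (g : ∀ i, Y.G i →ₐ[R] A) (hg : ∀ i j (h : i ≤ j), (g j).comp (Y.map i j h) = g i)
    (hsurj : ∀ a : A, ∃ i, ∃ x : Y.G i, g i x = a)
    (hker : ∀ i (x : Y.G i), g i x = 0 → ∃ j, ∃ h : i ≤ j, Y.map i j h x = 0) :
    Nonempty (IsColimit (Cocone.mk _ (Y.cocone g hg))) := by
  classical
  choose idx rep hrep using hsurj
  letI : ∀ s : Cocone Y.diag, Algebra R s.pt := fun s => s.pt.hom.hom.toAlgebra
  let ψ : ∀ (s : Cocone Y.diag) i, Y.G i →ₐ[R] s.pt := fun s i =>
    { toFun := fun x => (s.ι.app i).right.hom x
      map_one' := map_one (s.ι.app i).right.hom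
      map_mul' := map_mul (s.ι.app i).right.hom
      map_zero' := map_zero (s.ι.app i).right.hom
      map_add' := map_add (s.ι.app i).right.hom
      commutes' := fun r => (congrArg (fun e => e r) (Under.w (s.ι.app i)) :) }
  have compat : ∀ (s : Cocone Y.diag) i j (h : i ≤ j) (x : Y.G i), ψ s j (Y.map i j h x) = ψ s i x := by
    intro s i j h x
    exact congrArg (fun e => (CommRingCat.toAlgHom e) x) (s.w (homOfLE h))
  have well : ∀ (s : Cocone Y.diag) i j (x : Y.G i) (y : Y.G j), g i x = g j y → ψ s i x = ψ s j y := by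
    intro s i j x y hxy
    obtain ⟨m, h1, h2⟩ := directed_of (· ≤ ·) i j
    obtain ⟨m', hm', hz⟩ := hker m (Y.map i m h1 x - Y.map j m h2 y) (by
      rw [map_sub, ← AlgHom.comp_apply, ← AlgHom.comp_apply, hg, hg, hxy, sub_self])
    have := congrArg (ψ s m') hz
    rw [compat, map_zero, map_sub, compat, compat] at this
    exact sub_eq_zero.mp this
  have hH : ∀ (s : Cocone Y.diag) i (x : Y.G i), ψ s (idx (g i x)) (rep (g i x)) = ψ s i x :=
    fun s i x => well s _ _ _ _ (hrep _)
  let desc : ∀ s : Cocone Y.diag, A →ₐ[R] s.pt := fun s =>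
    { toFun := fun a => ψ s (idx a) (rep a)
      map_one' := by
        obtain ⟨i⟩ := ‹Nonempty I›
        rw [← map_one (g i), hH]; exact map_one _
      map_mul' := fun a b => by
        obtain ⟨m, h1, h2⟩ := directed_of (· ≤ ·) (idx a) (idx b)
        have e : a * b = g m (Y.map _ m h1 (rep a) * Y.map _ m h2 (rep b)) := by
          rw [map_mul, ← AlgHom.comp_apply, ← AlgHom.comp_apply, hg, hg, hrep, hrep]
        show ψ s (idx (a * b)) (rep (a * b)) = _
        rw [e, hH, map_mul, compat, compat]
      map_zero' := by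
        obtain ⟨i⟩ := ‹Nonempty I›
        rw [← map_zero (g i), hH]; exact map_zero _
      map_add' := fun a b => by
        obtain ⟨m, h1, h2⟩ := directed_of (· ≤ ·) (idx a) (idx b)
        have e : a + b = g m (Y.map _ m h1 (rep a) + Y.map _ m h2 (rep b)) := by
          rw [map_add, ← AlgHom.comp_apply, ← AlgHom.comp_apply, hg, hg, hrep, hrep]
        show ψ s (idx (a + b)) (rep (a + b)) = _
        rw [e, hH, map_add, compat, compat]
      commutes' := fun r => by
        obtain ⟨i⟩ := ‹Nonempty I›
        show ψ s (idx (algebraMap R A r)) (rep (algebraMap R A r)) = _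
        rw [← (g i).commutes r, hH]
        exact AlgHom.commutes _ r }
  exact ⟨
    { desc := fun s => Under.homMk (CommRingCat.ofHom (desc s).toRingHom) (by ext r; exact (desc s).commutes r)
      fac := fun s i => by
        apply CommRingCat.mkUnder_ext; intro a
        exact hH s i a
      uniq := fun s m hm => by
        apply CommRingCat.mkUnder_ext; intro a
        show _ = ψ s (idx a) (rep a)
        show _ = (s.ι.app (idx a)).right.hom (rep a)
        rw [← hm (idx a)]
        show m.right.hom a = m.right.hom (g (idx a) (rep a))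
        rw [hrep] }⟩

end Groth.Agent.FPPair8
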