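import Groth.Agent.FPPair8.Sys
import Groth.Agent.FPPair8.Model

/-!
# The directed systems of models and of their fibre products
-/

set_option autoImplicit false
universe u

open MvPolynomial

namespace Groth.Agent.FPPair8

variable {R : Type u} [CommRing R]
variable {B D D' : Type u} [CommRing B] [CommRing D] [CommRing D'] [Algebra R B] [Algebra R D] [Algebra R D']
  {f : B →ₐ[R] D} {i : D' →ₐ[R] D} {g : B → D'}

theorem qlift_mk {A C : Type u} [CommRing A] [CommRing C] [Algebra R A] [Algebra R C] (I : Ideal A) (φ : A →ₐ[R] C)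
    (h : ∀ a ∈ I, φ a = 0) (x : A) : Ideal.Quotient.liftₐ I φ h (Ideal.Quotient.mkₐ R I x) = φ x := rfl

/-- the map on quotients -/
noncomputable def qm {A C : Type u} [CommRing A] [CommRing C] [Algebra R A] [Algebra R C] {I : Ideal A} {J : Ideal C}
    (φ : A →ₐ[R] C) (h : I.map φ ≤ J) : A ⧸ I →ₐ[R] C ⧸ J :=
  Ideal.Quotient.liftₐ I ((Ideal.Quotient.mkₐ R J).comp φ) fun _ ha =>
    Ideal.Quotient.eq_zero_iff_mem.2 (h (Ideal.mem_map_of_mem φ ha))

theorem qm_mk {A C : Type u} [CommRing A] [CommRing C] [Algebra R A] [Algebra R C] {I : Ideal A} {J : Ideal C}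
    (φ : A →ₐ[R] C) (h : I.map φ ≤ J) (x : A) :
    qm φ h (Ideal.Quotient.mkₐ R I x) = Ideal.Quotient.mkₐ R J (φ x) := rfl

theorem qext {A C : Type u} [CommRing A] [CommRing C] [Algebra R A] [Algebra R C] {I : Ideal A}
    {φ ψ : A ⧸ I →ₐ[R] C} (h : ∀ x, φ (Ideal.Quotient.mkₐ R I x) = ψ (Ideal.Quotient.mkₐ R I x)) : φ = ψ :=
  AlgHom.ext fun w => by
    obtain ⟨x, rfl⟩ := Ideal.Quotient.mkₐ_surjective R I w
    exact h x

theorem inc_id_id {α : Type u} (S : Finset α) (h : ∀ b ∈ S, id b ∈ S) (x : PS R S) : inc id h x = x :=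
  AlgHom.congr_fun (MvPolynomial.algHom_ext (g := AlgHom.id R (PS R S)) fun y => by simp [inc]) x

theorem inc_inc {α β γ : Type u} (σ : α → β) (τ : β → γ) {S : Finset α} {T : Finset β} {U : Finset γ}
    (h : ∀ x ∈ S, σ x ∈ T) (h' : ∀ x ∈ T, τ x ∈ U) (x : PS R S) :
    inc τ h' (inc σ h x) = inc (τ ∘ σ) (fun x hx => h' _ (h x hx)) x :=
  AlgHom.congr_fun (inc_comp_inc σ τ h h') x

theorem ev_inc {α β A : Type u} [CommRing A] [Algebra R A] (a : β → A) (σ : α → β) {S : Finset α}
    {T : Finset β} (h : ∀ x ∈ S, σ x ∈ T) (x : PS R S) : ev a T (inc σ h x) = ev (a ∘ σ) S x :=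
  AlgHom.congr_fun (ev_comp_inc a σ h) x

/-- models of `B` -/
noncomputable def sysB (R : Type u) [CommRing R] [Algebra R B] [Algebra R D] [Algebra R D']
    (f : B →ₐ[R] D) (i : D' →ₐ[R] D) (g : B → D') : Sys R (Idx R f i g) where
  G j := PS R j.S ⧸ j.IB
  map j k h := qm (inc id h.1) h.2.2.1
  map_id j := qext fun x => by rw [qm_mk, inc_id_id]; rfl
  map_comp j k l h1 h2 := qext fun x => by rw [AlgHom.comp_apply, qm_mk, qm_mk, qm_mk, inc_inc]; rfl

/-- models of `D'` -/
noncomputable def sysD' (R : Type u) [CommRing R] [Algebra R B] [Algebra R D] [Algebra R D']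
    (f : B →ₐ[R] D) (i : D' →ₐ[R] D) (g : B → D') : Sys R (Idx R f i g) where
  G j := PS R j.T ⧸ j.I'
  map j k h := qm (inc id h.2.1) h.2.2.2.1
  map_id j := qext fun x => by rw [qm_mk, inc_id_id]; rfl
  map_comp j k l h1 h2 := qext fun x => by rw [AlgHom.comp_apply, qm_mk, qm_mk, qm_mk, inc_inc]; rfl

/-- models of `D` -/
noncomputable def sysD (R : Type u) [CommRing R] [Algebra R B] [Algebra R D] [Algebra R D']
    (f : B →ₐ[R] D) (i : D' →ₐ[R] D) (g : B → D') : Sys R (Idx R f i g) where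
  G j := PS R j.T ⧸ j.I
  map j k h := qm (inc id h.2.1) h.2.2.2.2
  map_id j := qext fun x => by rw [qm_mk, inc_id_id]; rfl
  map_comp j k l h1 h2 := qext fun x => by rw [AlgHom.comp_apply, qm_mk, qm_mk, qm_mk, inc_inc]; rfl

/-- the model of `f` -/
noncomputable def Idx.φ (j : Idx R f i g) : (sysB R f i g).G j →ₐ[R] (sysD R f i g).G j :=
  qm (inc g j.gmem) j.mapB

/-- the model of `i` -/
noncomputable def Idx.ψ (j : Idx R f i g) : (sysD' R f i g).G j →ₐ[R] (sysD R f i g).G j :=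
  Ideal.Quotient.factorₐ R j.sub

theorem Idx.φ_natural (j k : Idx R f i g) (h : j ≤ k) :
    k.φ.comp ((sysB R f i g).map j k h) = ((sysD R f i g).map j k h).comp j.φ :=
  qext fun x => by
    show Ideal.Quotient.mkₐ R k.I (inc g k.gmem (inc id h.1 x)) =
      Ideal.Quotient.mkₐ R k.I (inc id h.2.1 (inc g j.gmem x))
    rw [inc_inc, inc_inc]
    rfl

theorem Idx.ψ_natural (j k : Idx R f i g) (h : j ≤ k) :
    k.ψ.comp ((sysD' R f i g).map j k h) = ((sysD R f i g).map j k h).comp j.ψ :=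
  qext fun x => rfl

/-- evaluation in `B` -/
noncomputable def Idx.evB (j : Idx R f i g) : (sysB R f i g).G j →ₐ[R] B :=
  Ideal.Quotient.liftₐ j.IB (ev id j.S) j.leB

/-- evaluation in `D'` -/
noncomputable def Idx.evD' (j : Idx R f i g) : (sysD' R f i g).G j →ₐ[R] D' :=
  Ideal.Quotient.liftₐ j.I' (ev id j.T) j.le'

/-- evaluation in `D` -/
noncomputable def Idx.evD (j : Idx R f i g) : (sysD R f i g).G j →ₐ[R] D :=
  Ideal.Quotient.liftₐ j.I (i.comp (ev id j.T)) j.le

theorem evB_natural (j k : Idx R f i g) (h : j ≤ k) : k.evB.comp ((sysB R f i g).map j k h) = j.evB :=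
  qext fun x => by
    show ev id k.S (inc id h.1 x) = ev id j.S x
    rw [ev_inc]; rfl

theorem evD'_natural (j k : Idx R f i g) (h : j ≤ k) : k.evD'.comp ((sysD' R f i g).map j k h) = j.evD' :=
  qext fun x => by
    show ev id k.T (inc id h.2.1 x) = ev id j.T x
    rw [ev_inc]; rfl

theorem evD_natural (j k : Idx R f i g) (h : j ≤ k) : k.evD.comp ((sysD R f i g).map j k h) = j.evD :=
  qext fun x => by
    show i (ev id k.T (inc id h.2.1 x)) = i (ev id j.T x)
    rw [ev_inc]; rfl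

theorem evD_φ (hg : ∀ b, i (g b) = f b) (j : Idx R f i g) : j.evD.comp j.φ = f.comp j.evB :=
  qext fun x => by
    show i (ev id j.T (inc g j.gmem x)) = f (ev id j.S x)
    refine AlgHom.congr_fun (?_ : (i.comp (ev id j.T)).comp (inc g j.gmem) = f.comp (ev id j.S)) x
    exact MvPolynomial.algHom_ext fun y => by simp [inc, ev, hg]

theorem evD_ψ (j : Idx R f i g) : j.evD.comp j.ψ = i.comp j.evD' := qext fun _ => rfl

/-- models of the fibre product -/
noncomputable def sysP (R : Type u) [CommRing R] [Algebra R B] [Algebra R D] [Algebra R D']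
    (f : B →ₐ[R] D) (i : D' →ₐ[R] D) (g : B → D') : Sys R (Idx R f i g) where
  G j := ↥(AlgHom.equalizer (j.φ.comp (AlgHom.fst R ((sysB R f i g).G j) ((sysD' R f i g).G j)))
    (j.ψ.comp (AlgHom.snd R ((sysB R f i g).G j) ((sysD' R f i g).G j))))
  map j k h := (((((sysB R f i g).map j k h).comp (AlgHom.fst R _ _)).prod
      (((sysD' R f i g).map j k h).comp (AlgHom.snd R _ _))).comp (Subalgebra.val _)).codRestrict _ fun w => by
    show k.φ ((sysB R f i g).map j k h w.1.1) = k.ψ ((sysD' R f i g).map j k h w.1.2)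
    rw [← AlgHom.comp_apply, Idx.φ_natural, ← AlgHom.comp_apply k.ψ, Idx.ψ_natural, AlgHom.comp_apply,
      AlgHom.comp_apply]
    exact congrArg _ w.2
  map_id j := AlgHom.ext fun w => Subtype.ext <| by
    show ((sysB R f i g).map j j le_rfl w.1.1, (sysD' R f i g).map j j le_rfl w.1.2) = w.1
    rw [(sysB R f i g).map_id, (sysD' R f i g).map_id]
    rfl
  map_comp j k l h1 h2 := AlgHom.ext fun w => Subtype.ext <| by
    show ((sysB R f i g).map k l h2 ((sysB R f i g).map j k h1 w.1.1),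
      (sysD' R f i g).map k l h2 ((sysD' R f i g).map j k h1 w.1.2)) = _
    rw [← AlgHom.comp_apply, (sysB R f i g).map_comp, ← AlgHom.comp_apply ((sysD' R f i g).map k l h2),
      (sysD' R f i g).map_comp]
    rfl

end Groth.Agent.FPPair8
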